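import Mathlib
import Cfsg.Agent.Lib.Char.Clifford
import Cfsg.Agent.Lib.Char.Ito
import Cfsg.Agent.Lib.Char.Product
import Cfsg.Agent.Lib.Char.KernelSum
import Cfsg.Agent.Lib.Char.Descend

/-!
# A solvable group of order 6048 with an irreducible character of degree 42
-/

set_option autoImplicit false

namespace Cfsg.Agent.U33

open Cfsg.Agent.Char

universe u

/-- the affine group of the line -/
@[ext] structure Aff (K : Type) [Field K] where
  a : Kˣ
  b : K

namespace Aff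

variable {K : Type} [Field K]

instance : Mul (Aff K) := ⟨fun g g' => ⟨g.a * g'.a, g.a * g'.b + g.b⟩⟩
instance : One (Aff K) := ⟨⟨1, 0⟩⟩
instance : Inv (Aff K) := ⟨fun g => ⟨g.a⁻¹, -((g.a⁻¹ : Kˣ) * g.b)⟩⟩

theorem mul_def (g g' : Aff K) : g * g' = ⟨g.a * g'.a, g.a * g'.b + g.b⟩ := rfl
theorem one_def : (1 : Aff K) = ⟨1, 0⟩ := rfl
theorem inv_def (g : Aff K) : g⁻¹ = ⟨g.a⁻¹, -((g.a⁻¹ : Kˣ) * g.b)⟩ := rfl

instance : Group (Aff K) :=
  Group.ofLeftAxioms
    (fun g g' g'' => by ext <;> simp [mul_def, mul_assoc] <;> ring)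
    (fun g => by ext <;> simp [mul_def, one_def])
    (fun g => by ext <;> simp [mul_def, one_def, inv_def])

/-- the linear part -/
def lin : Aff K →* Kˣ where
  toFun g := g.a
  map_one' := rfl
  map_mul' _ _ := rfl

instance [Finite K] : Finite (Aff K) :=
  Finite.of_injective (fun g => (g.a, g.b)) fun g g' hg => by
    simp only [Prod.mk.injEq] at hg
    exact Aff.ext hg.1 hg.2

theorem card_eq : Nat.card (Aff K) = Nat.card Kˣ * Nat.card K := by
  rw [← Nat.card_prod]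
  exact Nat.card_congr ⟨fun g => (g.a, g.b), fun p => ⟨p.1, p.2⟩, fun _ => rfl, fun _ => rfl⟩

theorem ker_comm : ∀ x ∈ (lin (K := K)).ker, ∀ y ∈ (lin (K := K)).ker, x * y = y * x := by
  intro x hx y hy
  have hx' : x.a = 1 := hx
  have hy' : y.a = 1 := hy
  ext <;> simp [mul_def, hx', hy', add_comm]

theorem solvable : Group.IsSolvable (Aff K) := by
  haveI : Group.IsSolvable (lin (K := K)).ker :=
    @Group.instIsSolvable _ { (inferInstance : Group (lin (K := K)).ker) with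
      mul_comm := fun x y => Subtype.ext (by exact ker_comm x.1 x.2 y.1 y.2) }
  exact solvable_of_ker_le_range (lin (K := K)).ker.subtype lin (by simp)

theorem exists_seven [Finite K] (hK : Nat.card K = 8) :
    ∃ χ : IrrCharacter (Aff K), degree χ = 7 := by
  haveI := Fintype.ofFinite (Aff K)
  have hidx : (lin (K := K)).ker.index = 7 := by
    rw [Subgroup.index_ker, MonoidHom.range_eq_top.2 fun a => ⟨⟨a, 0⟩, rfl⟩, Subgroup.card_top, Nat.card_units, hK]
  by_contra hno; push Not at hno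
  have hlin : ∀ χ : IrrCharacter (Aff K), χ.1 1 = 1 := by
    intro χ
    have h1 := degree_dvd_index_of_comm (N := (lin (K := K)).ker) ker_comm χ
    rw [hidx] at h1
    rcases (Nat.dvd_prime (by norm_num : Nat.Prime 7)).1 h1 with h | h
    · rw [apply_one_eq_degree, h, Nat.cast_one]
    · exact absurd h (hno χ)
  have hcomm := (forall_apply_one_iff_comm (G := Aff K)).1 hlin
  obtain ⟨a, ha⟩ : ∃ a : Kˣ, a ≠ 1 := by
    have : 1 < Nat.card Kˣ := by rw [Nat.card_units, hK]; norm_num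
    haveI := Finite.one_lt_card_iff_nontrivial.1 this
    exact exists_ne 1
  have := congrArg Aff.b (hcomm ⟨a, 0⟩ ⟨1, 1⟩)
  simp [mul_def] at this
  exact ha this

end Aff

/-- triangular affine maps of the plane over three elements -/
@[ext] structure Tri where
  a : (ZMod 3)ˣ
  b : (ZMod 3)ˣ
  c : ZMod 3
  p : ZMod 3
  q : ZMod 3

namespace Tri

/-- as tuples -/
def equivProd : Tri ≃ (ZMod 3)ˣ × (ZMod 3)ˣ × ZMod 3 × ZMod 3 × ZMod 3 where
  toFun g := (g.a, g.b, g.c, g.p, g.q)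
  invFun t := ⟨t.1, t.2.1, t.2.2.1, t.2.2.2.1, t.2.2.2.2⟩
  left_inv _ := rfl
  right_inv _ := rfl

instance : Fintype Tri := Fintype.ofEquiv _ equivProd.symm

instance : DecidableEq Tri := fun x y => decidable_of_iff _ equivProd.injective.eq_iff

instance : Mul Tri := ⟨fun g g' =>
  ⟨g.a * g'.a, g.b * g'.b, g.a * g'.c + g.c * g'.b, g.a * g'.p + g.c * g'.q + g.p, g.b * g'.q + g.q⟩⟩
instance : One Tri := ⟨⟨1, 1, 0, 0, 0⟩⟩
instance : Inv Tri := ⟨fun g => ⟨g.a⁻¹, g.b⁻¹, -((g.a⁻¹ : (ZMod 3)ˣ) * g.c * (g.b⁻¹ : (ZMod 3)ˣ)),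
  -((g.a⁻¹ : (ZMod 3)ˣ) * (g.p - g.c * (g.b⁻¹ : (ZMod 3)ˣ) * g.q)), -((g.b⁻¹ : (ZMod 3)ˣ) * g.q)⟩⟩

theorem mul_def (g g' : Tri) : g * g' =
    ⟨g.a * g'.a, g.b * g'.b, g.a * g'.c + g.c * g'.b, g.a * g'.p + g.c * g'.q + g.p, g.b * g'.q + g.q⟩ := rfl
theorem one_def : (1 : Tri) = ⟨1, 1, 0, 0, 0⟩ := rfl
theorem inv_def (g : Tri) : g⁻¹ = ⟨g.a⁻¹, g.b⁻¹, -((g.a⁻¹ : (ZMod 3)ˣ) * g.c * (g.b⁻¹ : (ZMod 3)ˣ)),
    -((g.a⁻¹ : (ZMod 3)ˣ) * (g.p - g.c * (g.b⁻¹ : (ZMod 3)ˣ) * g.q)), -((g.b⁻¹ : (ZMod 3)ˣ) * g.q)⟩ := rfl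

instance : Group Tri :=
  Group.ofLeftAxioms
    (fun g g' g'' => by ext <;> simp [mul_def, mul_assoc] <;> ring)
    (fun g => by ext <;> simp [mul_def, one_def])
    (by decide +kernel)

theorem card_eq : Nat.card Tri = 108 := by
  rw [Nat.card_congr equivProd, Nat.card_prod, Nat.card_prod, Nat.card_prod, Nat.card_prod, Nat.card_units,
    Nat.card_zmod]

/-- the diagonal part -/
def diag : Tri →* (ZMod 3)ˣ × (ZMod 3)ˣ where
  toFun g := (g.a, g.b)
  map_one' := rfl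
  map_mul' _ _ := rfl

theorem solvable : Group.IsSolvable Tri := by
  have hk : Nat.card diag.ker = 27 := by
    have h1 := diag.ker.card_mul_index
    rw [Subgroup.index_ker, MonoidHom.range_eq_top.2 (fun t => ⟨⟨t.1, t.2, 0, 0, 0⟩, rfl⟩), Subgroup.card_top,
      card_eq, Nat.card_prod, Nat.card_units, Nat.card_zmod] at h1
    omega
  haveI : Fact (Nat.Prime 3) := ⟨Nat.prime_three⟩
  haveI : Group.IsNilpotent diag.ker := (IsPGroup.of_card (n := 3) (p := 3) (by rw [hk]; norm_num)).isNilpotent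
  haveI : Group.IsSolvable diag.ker := inferInstance
  exact solvable_of_ker_le_range diag.ker.subtype diag (by simp)

/-- the translations -/
def trans : Subgroup Tri where
  carrier := {g | g.a = 1 ∧ g.b = 1 ∧ g.c = 0}
  one_mem' := ⟨rfl, rfl, rfl⟩
  mul_mem' {x y} hx hy := by
    obtain ⟨h1, h2, h3⟩ := hx
    obtain ⟨k1, k2, k3⟩ := hy
    refine ⟨?_, ?_, ?_⟩ <;> simp [mul_def, h1, h2, h3, k1, k2, k3]
  inv_mem' {x} hx := by
    obtain ⟨h1, h2, h3⟩ := hx
    refine ⟨?_, ?_, ?_⟩ <;> simp [inv_def, h1, h2, h3]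

theorem mem_trans {g : Tri} : g ∈ trans ↔ g.a = 1 ∧ g.b = 1 ∧ g.c = 0 := Iff.rfl

instance : trans.Normal where
  conj_mem x hx g := by
    have key : ∀ (g : Tri) (p q : ZMod 3), (g * ⟨1, 1, 0, p, q⟩ * g⁻¹).a = 1 ∧ (g * ⟨1, 1, 0, p, q⟩ * g⁻¹).b = 1 ∧
        (g * ⟨1, 1, 0, p, q⟩ * g⁻¹).c = 0 := by decide +kernel
    obtain ⟨h1, h2, h3⟩ := hx
    rw [show x = ⟨1, 1, 0, x.p, x.q⟩ from Tri.ext h1 h2 h3 rfl rfl]
    exact key g x.p x.q

theorem trans_comm : ∀ x ∈ trans, ∀ y ∈ trans, x * y = y * x := by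
  intro x hx y hy
  obtain ⟨h1, h2, h3⟩ := hx
  obtain ⟨k1, k2, k3⟩ := hy
  ext <;> simp [mul_def, h1, h2, h3, k1, k2, k3, add_comm]

theorem card_trans : Nat.card trans = 9 := by
  rw [Nat.card_congr (⟨fun g => (g.1.p, g.1.q), fun t => ⟨⟨1, 1, 0, t.1, t.2⟩, rfl, rfl, rfl⟩, fun g => by
    obtain ⟨⟨a, b, c, p, q⟩, (rfl : a = 1), (rfl : b = 1), (rfl : c = 0)⟩ := g
    rfl, fun _ => rfl⟩ : trans ≃ ZMod 3 × ZMod 3), Nat.card_prod, Nat.card_zmod]

theorem conj_p : ∀ (a : (ZMod 3)ˣ) (c p q : ZMod 3),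
    ((⟨a, 1, c, 0, 0⟩ : Tri) * ⟨1, 1, 0, p, q⟩ * (⟨a, 1, c, 0, 0⟩ : Tri)⁻¹).p = a * p + c * q := by
  decide +kernel

theorem exists_six : ∃ χ : IrrCharacter Tri, degree χ = 6 := by
  classical
  haveI : Fact (Nat.Prime 3) := ⟨Nat.prime_three⟩
  set ω : ℂ := Complex.exp (2 * Real.pi * Complex.I / (3 : ℕ))
  have hω : IsPrimitiveRoot ω 3 := Complex.isPrimitiveRoot_exp 3 (by norm_num)
  let ψ : AddChar (ZMod 3) ℂ := AddChar.zmodChar 3 hω.pow_eq_one
  have hψ : Function.Injective ψ := by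
    intro x y hxy
    simp only [ψ, AddChar.zmodChar_apply] at hxy
    exact ZMod.val_injective 3 (hω.pow_inj x.val_lt y.val_lt hxy)
  let lamT : trans →* ℂ :=
    { toFun := fun v => ψ v.1.p
      map_one' := ψ.map_zero_eq_one
      map_mul' := fun x y => by
        rw [show ((x * y : trans) : Tri).p = y.1.p + x.1.p by
          rw [Subgroup.coe_mul, mul_def]; simp [x.2.1, x.2.2.2], ψ.map_add_eq_mul, mul_comm] }
  let θ : IrrCharacter trans := linIrr lamT
  -- six conjugates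
  let g : (ZMod 3)ˣ × ZMod 3 → Tri := fun t => ⟨t.1, 1, t.2, 0, 0⟩
  have hval : ∀ (t : (ZMod 3)ˣ × ZMod 3) (v : trans), (conjChar trans θ (g t)).1 v = ψ (t.1 * v.1.p + t.2 * v.1.q) := by
    intro t v
    have h : conjFun trans θ.1 (g t) v = ψ ((g t * v.1 * (g t)⁻¹).p) := by
      show ψ ((MulAut.conjNormal (g t) v : trans) : Tri).p = _
      rw [MulAut.conjNormal_apply]
    rw [conjChar_coe, h]
    congr 1
    obtain ⟨⟨a, b, c, p, q⟩, (rfl : a = 1), (rfl : b = 1), (rfl : c = 0)⟩ := v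
    exact conj_p t.1 t.2 p q
  have hinj : Function.Injective (fun t => conjChar trans θ (g t)) := by
    intro s t hst
    have h1 := congrFun (congrArg Subtype.val hst) ⟨⟨1, 1, 0, 1, 0⟩, rfl, rfl, rfl⟩
    have h2 := congrFun (congrArg Subtype.val hst) ⟨⟨1, 1, 0, 0, 1⟩, rfl, rfl, rfl⟩
    rw [hval, hval] at h1 h2
    simp only [mul_one, mul_zero, add_zero, zero_add] at h1 h2
    exact Prod.ext (Units.ext (hψ h1)) (hψ h2)
  have horb : 6 ≤ (orbitFinset trans θ).card := by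
    have h := Finset.card_le_card (show Finset.univ.image (fun t => conjChar trans θ (g t)) ⊆ orbitFinset trans θ from
      fun η hη => by
        obtain ⟨t, -, rfl⟩ := Finset.mem_image.1 hη
        exact (mem_orbitFinset trans).2 ⟨_, rfl⟩)
    rw [Finset.card_image_of_injective _ hinj, Finset.card_univ, Fintype.card_prod, ZMod.card,
      Fintype.card_units, ZMod.card] at h
    exact h
  obtain ⟨χ, hχ⟩ : ∃ χ : IrrCharacter Tri, classInner (resFun trans χ.1) θ.1 ≠ 0 := by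
    by_contra! hall
    have h0 := eq_zero_of_classInner_irr (isClassFunction_indFun trans θ.1) fun χ => by
      rw [classInner_indFun trans _ (IsCharacter.isClassFunction (irr_isCharacter χ)), ← conj_classInner,
        show classInner (fun h : trans => χ.1 h) θ.1 = 0 from hall χ, map_zero]
    have h1 := congrFun h0 1
    rw [indFun_apply_one, linIrr_apply, map_one, mul_one, Pi.zero_apply] at h1
    exact Subgroup.FiniteIndex.index_ne_zero (H := trans) (Nat.cast_eq_zero.1 h1)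
  refine ⟨χ, ?_⟩
  obtain ⟨e, he⟩ := IsCharacter.exists_nat_classInner (IsCharacter.restrict (irr_isCharacter χ) trans) (irr_isCharacter θ)
  change classInner (resFun trans χ.1) θ.1 = e at he
  have hd := apply_one_eq_mul_card_orbit trans χ θ hχ
  rw [he, apply_one_eq_degree, linIrr_apply, map_one, mul_one, ← Nat.cast_mul, Nat.cast_inj] at hd
  have he0 : e ≠ 0 := fun h0 => hχ (by rw [he, h0, Nat.cast_zero])
  have hge : 6 ≤ degree χ := by rw [hd]; exact le_trans horb (Nat.le_mul_of_pos_left _ (Nat.pos_of_ne_zero he0))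
  have hidx : trans.index = 12 := by
    have := trans.card_mul_index
    rw [card_trans, card_eq] at this
    omega
  have hdvd := degree_dvd_index_of_comm (N := trans) trans_comm χ
  rw [hidx] at hdvd
  have hsq : degree χ ^ 2 ≤ 108 := by
    rw [← card_eq, ← sum_degree_sq]
    exact Finset.single_le_sum (f := fun χ => degree χ ^ 2) (fun i _ => Nat.zero_le _) (Finset.mem_univ χ)
  have : degree χ ≤ 10 := by
    by_contra h
    have := Nat.pow_le_pow_left (show 11 ≤ degree χ by omega) 2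
    omega
  interval_cases (degree χ) <;> omega

end Tri

theorem exists_solvable : ∃ (H : Type) (_ : Group H) (_ : Fintype H), Group.IsSolvable H ∧ Nat.card H = 6048 ∧
    ∃ χ : IrrCharacter H, degree χ = 42 := by
  haveI : Fact (Nat.Prime 2) := ⟨Nat.prime_two⟩
  have hK : Nat.card (GaloisField 2 3) = 8 := by rw [GaloisField.card 2 3 (by norm_num)]; norm_num
  letI : Fintype (Aff (GaloisField 2 3)) := Fintype.ofFinite _
  haveI := Aff.solvable (K := GaloisField 2 3)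
  haveI := Tri.solvable
  refine ⟨Aff (GaloisField 2 3) × Tri, inferInstance, inferInstance, inferInstance, ?_, ?_⟩
  · rw [Nat.card_prod, Aff.card_eq, Tri.card_eq, Nat.card_units, hK]
  · obtain ⟨φ, hφ⟩ := Aff.exists_seven hK
    obtain ⟨ψ, hψ⟩ := Tri.exists_six
    refine ⟨⟨_, isIrrCharacter_prod_mul φ.2 ψ.2⟩, ?_⟩
    have h1 := apply_one_eq_degree (⟨_, isIrrCharacter_prod_mul φ.2 ψ.2⟩ : IrrCharacter (Aff (GaloisField 2 3) × Tri))
    simp only [Prod.fst_one, Prod.snd_one, apply_one_eq_degree, hφ, hψ] at h1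
    exact_mod_cast h1.symm

end Cfsg.Agent.U33
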